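import Cfsg.Agent.H103.CY.TwoT
import Cfsg.Agent.H776.CY.Congr
import Cfsg.Agent.S2126
import Cfsg.Agent.S2127

/-!
# S4829: the rows `Sz(q)` and `²G₂(q)` (`p ≠ 3`) (helper103)
-/

set_option autoImplicit false
set_option linter.unusedSectionVars false

namespace Cfsg.Agent.H103.CY

open Cfsg Subgroup Cfsg.Agent.H770.CY MulAction
open scoped Pointwise

universe u

/-! ### the Ree groups -/

section ree

open Cfsg.Agent.LieRecognition.ReeAbs Cfsg.Agent.LieRecognition.ReeSylowThree Cfsg.Agent.FixBN.ReeSplit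
open Cfsg.Agent.H908.BR

variable {K : Type*} [Field K] [Fintype K] {m : ℕ} {G : Type u} [Group G] {U : K → K → K → G} {h : Kˣ → G} {n : G}

/-- number theory for the torus of the Ree group -/
theorem ree_num (hK : Fintype.card K = 3 ^ (2 * m + 1)) {p : ℕ} (hp : p.Prime) (hp2 : p ≠ 2) (hp3 : p ≠ 3)
    (hd : p ∣ Fintype.card K - 1) {a : Kˣ} (ha : orderOf a = p) :
    (a : K) ^ (3 ^ (m + 1)) ≠ 1 ∧ (a : K) ^ (3 ^ (m + 1) + 3) ≠ 1 ∧ (a : K) ^ (2 * 3 ^ (m + 1) + 3) ≠ 1 := by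
  have key : ∀ k : ℕ, (a : K) ^ k = 1 → p ∣ k := by
    intro k hk
    rw [← ha]
    exact orderOf_dvd_of_pow_eq_one (Units.ext (by rw [Units.val_pow_eq_pow_val, hk, Units.val_one]))
  have h3 : ¬ p ∣ 3 := fun h => hp3 ((Nat.prime_dvd_prime_iff_eq hp Nat.prime_three).1 h)
  have hq : ((3 : ℤ) * (3 ^ m) ^ 2 - 1) = ((Fintype.card K - 1 : ℕ) : ℤ) := by
    rw [Nat.cast_sub Fintype.card_pos, hK]
    push_cast
    ring
  have hd' : (p : ℤ) ∣ (3 : ℤ) * (3 ^ m) ^ 2 - 1 := by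
    rw [hq]
    exact Int.natCast_dvd_natCast.2 hd
  refine ⟨fun h => ?_, fun h => ?_, fun h => ?_⟩
  · exact h3 (hp.dvd_of_dvd_pow (key _ h))
  · have h1 := key _ h
    have h2 : 3 ^ (m + 1) + 3 = 3 * (3 ^ m + 1) := by rw [pow_succ]; ring
    rw [h2] at h1
    have h4 : p ∣ 3 ^ m + 1 := (hp.dvd_mul.1 h1).resolve_left h3
    have h5 : (p : ℤ) ∣ 3 ^ m + 1 := by exact_mod_cast Int.natCast_dvd_natCast.2 h4
    have h6 : (p : ℤ) ∣ 2 := by
      have e : (2 : ℤ) = (3 * (3 ^ m) ^ 2 - 1) - (3 * 3 ^ m - 3) * (3 ^ m + 1) := by ring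
      rw [e]
      exact dvd_sub hd' (h5.mul_left _)
    have h7 : p ∣ 2 := by exact_mod_cast h6
    exact hp2 ((Nat.prime_dvd_prime_iff_eq hp Nat.prime_two).1 h7)
  · have h1 := key _ h
    have h2 : 2 * 3 ^ (m + 1) + 3 = 3 * (2 * 3 ^ m + 1) := by rw [pow_succ]; ring
    rw [h2] at h1
    have h4 : p ∣ 2 * 3 ^ m + 1 := (hp.dvd_mul.1 h1).resolve_left h3
    have h5 : (p : ℤ) ∣ 2 * 3 ^ m + 1 := by exact_mod_cast Int.natCast_dvd_natCast.2 h4
    have h6 : (p : ℤ) ∣ 1 := by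
      have e : (1 : ℤ) = 3 * (2 * 3 ^ m - 1) * (2 * 3 ^ m + 1) - 4 * (3 * (3 ^ m) ^ 2 - 1) := by ring
      rw [e]
      exact dvd_sub (h5.mul_left _) (hd'.mul_left _)
    have h7 : p ∣ 1 := by exact_mod_cast h6
    exact hp.one_lt.ne' (Nat.dvd_one.1 h7)

/-- an element of the torus of prime order fixes two points only -/
theorem ree_two (hK : Fintype.card K = 3 ^ (2 * m + 1)) (D : Data m U h n) {p : ℕ} (hp : p.Prime) (hp2 : p ≠ 2)
    (hp3 : p ≠ 3) (hd : p ∣ Fintype.card K - 1) {a : Kˣ} (ha : orderOf a = p) {g : G}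
    (hg : g⁻¹ * h a * g ∈ bSub D) : g ∈ bSub D ∨ ∃ b ∈ bSub D, g = n * b := by
  rcases D.bruhat g with ⟨t, u, v, b, rfl⟩ | ⟨t, u, v, b, t', u', v', rfl⟩
  · exact Or.inl ⟨_, ⟨t, u, v, rfl⟩, b, rfl⟩
  right
  have hY : U t' u' v' ∈ bSub D := uSub_le_bSub D ⟨t', u', v', rfl⟩
  have hhb : ∀ b, h b ∈ bSub D := fun b => h_mem_bSub D b
  -- `w = (h a)⁻¹ U⁻¹ (h a) U`
  obtain ⟨hn1, hn2, hn3⟩ := ree_num hK hp hp2 hp3 hd ha
  set w : G := (U t u v)⁻¹ * (h a * U t u v * (h a)⁻¹) with hw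
  have hwU : w ∈ uSub D := mul_mem (inv_mem ⟨t, u, v, rfl⟩) (h_conj_mem D a ⟨t, u, v, rfl⟩)
  have h1 : n * ((h b)⁻¹ * w * h b) * n ∈ bSub D := by
    have e1 : (U t u v * h b * n * U t' u' v')⁻¹ * h a * (U t u v * h b * n * U t' u' v') =
        (U t' u' v')⁻¹ * (n⁻¹ * ((h b)⁻¹ * w * h b) * n) * (n⁻¹ * ((h b)⁻¹ * h a * h b) * n) * U t' u' v' := by
      rw [hw]
      group
    have e2 : (h b)⁻¹ * h a * h b = h a := by
      rw [mul_assoc, ← D.h_mul, mul_comm a b, D.h_mul, inv_mul_cancel_left]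
    have e3 : n⁻¹ * h a * n = h a⁻¹ := by
      rw [D.n_inv, D.n_h, mul_assoc, D.n_n, mul_one]
    rw [e1, e2, e3] at hg
    have h2 := mul_mem (mul_mem (mul_mem hY hg) (inv_mem hY)) (inv_mem (hhb a⁻¹))
    have e4 : U t' u' v' * ((U t' u' v')⁻¹ * (n⁻¹ * ((h b)⁻¹ * w * h b) * n) * h a⁻¹ * U t' u' v') *
        (U t' u' v')⁻¹ * (h a⁻¹)⁻¹ = n⁻¹ * ((h b)⁻¹ * w * h b) * n := by group
    rw [e4, D.n_inv] at h2
    exact h2
  have h2 : (h b)⁻¹ * w * h b ∈ uSub D := by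
    have h3 := h_conj_mem D b⁻¹ hwU
    rw [D.h_inv, inv_inv] at h3
    exact h3
  have h3 := eq_one_of_conj D h2 h1
  have h4 : w = 1 := by
    have e : w = h b * ((h b)⁻¹ * w * h b) * (h b)⁻¹ := by group
    rw [e, h3, mul_one, mul_inv_cancel]
  have h5 : h a * U t u v * (h a)⁻¹ = U t u v := by
    rw [hw, inv_mul_eq_one] at h4
    exact h4.symm
  rw [D.h_U, mul_inv_cancel_right] at h5
  obtain ⟨k1, k2, k3⟩ := U_injective D h5
  have z : ∀ c x : K, c ≠ 1 → c * x = x → x = 0 := by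
    intro c x hc hx
    have h6 : (c - 1) * x = 0 := by rw [sub_mul, hx, one_mul, sub_self]
    exact (mul_eq_zero.1 h6).resolve_left (sub_ne_zero.2 hc)
  have z1 := z _ _ hn1 k1
  have z2 := z _ _ hn2 k2
  have z3 := z _ _ hn3 k3
  refine ⟨h b⁻¹ * U t' u' v', mul_mem (hhb _) hY, ?_⟩
  rw [z1, z2, z3, D.U_zero, one_mul, ← mul_assoc, D.n_h, inv_inv]

theorem rowA_ree (hK : Fintype.card K = 3 ^ (2 * m + 1)) [Fintype G] (D : Data m U h n) {p : ℕ} [hp : Fact p.Prime]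
    (hp3 : p ≠ 3) (hd : p ∣ Nat.card G) (hodd : Odd (MulAut.conj : G →* MulAut G).range.index) : RowA p G := by
  have : Fact (Nat.Prime 3) := ⟨Nat.prime_three⟩
  have hpg : IsPGroup 3 (uSub D) := by
    apply IsPGroup.of_card (n := (2 * m + 1) * 3)
    rw [card_uSub, hK, pow_mul]
  have hcard := card_eq D
  have hidx : (uSub D).index = (Fintype.card K - 1) * ((Fintype.card K) ^ 3 + 1) := by
    have h1 := (uSub D).card_mul_index
    rw [card_uSub, hcard, mul_assoc] at h1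
    exact Nat.eq_of_mul_eq_mul_left (pow_pos (Fintype.card_pos) 3) h1
  have hq : 3 ∣ Fintype.card K := by rw [hK]; exact dvd_pow_self 3 (by omega)
  have hn3 : ¬ 3 ∣ (uSub D).index := by
    rw [hidx, Nat.prime_three.dvd_mul]
    have h0 := Fintype.card_pos (α := K)
    obtain ⟨c, hc⟩ := hq
    rintro (h1 | h1)
    · obtain ⟨d, hd⟩ := h1
      omega
    · have h2 : 3 ∣ Fintype.card K ^ 3 := dvd_pow ⟨c, hc⟩ (by decide)
      rw [Nat.dvd_add_right h2] at h1
      omega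
  have hpq : ¬ p ∣ Fintype.card K ^ 3 := by
    rw [hK]
    intro h1
    exact hp3 ((Nat.prime_dvd_prime_iff_eq hp.out Nat.prime_three).1
      (hp.out.dvd_of_dvd_pow (hp.out.dvd_of_dvd_pow h1)))
  refine rowA_of_rank_one (B := bSub D) (n := n) (bruhat' D) ?_ ?_ (hpg.toSylow hn3) (normalizer_uSub D) ?_
  · rw [index_bSub]
    have h0 : 1 < Fintype.card K := Fintype.one_lt_card
    have h1 : 1 < Fintype.card K ^ 3 := Nat.one_lt_pow (by norm_num) h0
    omega
  · rw [index_bSub, Nat.add_sub_cancel]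
    exact hpq
  · by_cases h1 : p ∣ (bSub D).index
    · exact Or.inl h1
    · right
      rw [index_bSub] at h1
      rw [hcard, hp.out.dvd_mul, hp.out.dvd_mul] at hd
      have h2 : p ∣ Fintype.card K - 1 := by
        rcases hd with (h | h) | h
        · exact absurd h hpq
        · exact h
        · exact absurd h h1
      have h2' : p ∣ Nat.card Kˣ := by rwa [Nat.card_units, Nat.card_eq_fintype_card]
      obtain ⟨a, ha⟩ := exists_prime_orderOf_dvd_card' (G := Kˣ) p h2'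
      have hp2 : p ≠ 2 := by
        rintro rfl
        apply h1
        rw [hK]
        have h3 : Odd ((3 ^ (2 * m + 1)) ^ 3) := Odd.pow (Odd.pow (by decide))
        exact (h3.add_one).two_dvd
      have ha2 : a * a ≠ 1 := by
        intro h3
        have h4 : orderOf a ∣ 2 := orderOf_dvd_of_pow_eq_one (by rw [sq]; exact h3)
        rw [ha] at h4
        exact hp2 ((Nat.prime_dvd_prime_iff_eq hp.out Nat.prime_two).1 h4)
      refine ⟨hodd, zpowers (h a), ?_, ?_, cent_h D ha2, fun g hg => ree_two hK D hp.out hp2 hp3 h2 ha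
        (hg _ (mem_zpowers _))⟩
      · have hhp : ∀ k : ℕ, h a ^ k = h (a ^ k) := by
          intro k
          induction k with
          | zero => rw [pow_zero, pow_zero, D.h_one]
          | succ k ih => rw [pow_succ, pow_succ, ih, D.h_mul]
        have h4 : h a ^ p = 1 := by rw [hhp, ← ha, pow_orderOf_eq_one, D.h_one]
        obtain ⟨j, -, hj⟩ := (Nat.dvd_prime_pow hp.out (m := 1) (i := orderOf (h a))).1
          (by rw [pow_one]; exact orderOf_dvd_of_pow_eq_one h4)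
        exact IsPGroup.of_card (n := j) (by rw [Nat.card_zpowers, hj])
      · rw [zpowers_le]
        exact h_mem_bSub D a

/-- **`²G₂(q)`, `p ≠ 3`** -/
theorem rowForA_ree {p : ℕ} [Fact p.Prime] (hp3 : p ≠ 3) : RowForA p (fun X _ => Lie.IsoRee X) := by
  intro X _ _ _ _ hd hX
  obtain ⟨K, _, _, m, hm, hK, ⟨e⟩⟩ := hX
  obtain ⟨U, h, n, D⟩ := Cfsg.Agent.ChevalleyStructure.Ree.Data.exists_data hK
  have : Finite ↥(Cfsg.Lie.twistedG2 K (3 ^ m)) := Finite.of_equiv X e.toEquiv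
  have := Fintype.ofFinite ↥(Cfsg.Lie.twistedG2 K (3 ^ m))
  have h1 := Cfsg.Agent.S2127.result hm hK
  have h2 : (MulAut.conj : ↥(Cfsg.Lie.twistedG2 K (3 ^ m)) →* _).range.index = 2 * m + 1 := h1
  exact H776.CY.RowA.congr e (rowA_ree hK D hp3 (by rwa [Nat.card_congr e.toEquiv] at hd) (by rw [h2]; exact ⟨m, rfl⟩))

end ree

/-! ### the Suzuki groups -/

section sz

open MulAction Cfsg.Agent.LieExceptional Cfsg.Agent.LieExceptional.SuzukiSylow Cfsg.Agent.H98.SzBasic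

variable {F : Type} [Field F] [Fintype F] {m : ℕ}

theorem sz_two (hm : 1 ≤ m) (hF : Fintype.card F = 2 ^ (2 * m + 1)) {k : Fˣ} (hk : k ≠ 1) {g : Cfsg.Sz F m}
    (hg : g⁻¹ * h hF k * g ∈ stabilizer (Cfsg.Sz F m) (inf F m)) :
    g ∈ stabilizer (Cfsg.Sz F m) (inf F m) ∨ ∃ b ∈ stabilizer (Cfsg.Sz F m) (inf F m), g = w hF * b := by
  have h1 : h hF k • (g • inf F m) = g • inf F m := by
    have h2 : (g⁻¹ * h hF k * g) • inf F m = inf F m := hg
    rw [mul_smul, mul_smul, inv_smul_eq_iff] at h2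
    exact h2
  rcases point_cases (g • inf F m) with h2 | ⟨x, y, h2⟩
  · exact Or.inl h2
  right
  rw [h2, ← zero_add x, ← zero_add y] at h1
  have e0 : u hF x y • zer F m = opt m x y := u_smul_zer hF x y
  rw [zero_add, zero_add, ← e0] at h1
  -- `u⁻¹ h u` fixes both points
  obtain ⟨k', hk'⟩ := eq_h hm hF (g := (u hF x y)⁻¹ * h hF k * u hF x y)
    (by rw [mul_smul, mul_smul, u_smul_inf, h_smul_inf, inv_smul_eq_iff, u_smul_inf])
    (by rw [mul_smul, mul_smul, h1, inv_smul_smul])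
  have h3 : h hF k * u hF x y = u hF x y * h hF k' := by rw [← hk']; group
  have h3' := h3
  rw [h_mul_u] at h3
  obtain ⟨-, -, rfl⟩ := u_mul_h_inj hF h3
  have h4 : u hF x y ∈ centralizer ({h hF k} : Set (Cfsg.Sz F m)) := by
    rw [mem_centralizer_singleton_iff]
    exact h3'.symm
  rw [centralizer_h hm hF hk] at h4
  obtain ⟨j, hj⟩ := h4
  have h5 : u hF x y • zer F m = zer F m := by
    rw [← hj]
    exact h_smul_zer hF j
  rw [e0, ← h2] at h5
  refine ⟨(w hF)⁻¹ * g, ?_, by group⟩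
  show ((w hF)⁻¹ * g) • inf F m = inf F m
  rw [mul_smul, h5, inv_smul_eq_iff, w_smul_inf]

theorem rowA_sz (hm : 1 ≤ m) (hF : Fintype.card F = 2 ^ (2 * m + 1)) [Fintype (Cfsg.Sz F m)] {p : ℕ}
    [hp : Fact p.Prime] (hp2 : p ≠ 2) (hd : p ∣ Nat.card (Cfsg.Sz F m))
    (hodd : Odd (MulAut.conj : Cfsg.Sz F m →* MulAut (Cfsg.Sz F m)).range.index) : RowA p (Cfsg.Sz F m) := by
  have hfin := finite_ovoid F m
  have : Fact (Nat.Prime 2) := ⟨Nat.prime_two⟩
  have h1p : IsPretransitive (Cfsg.Sz F m) (Cfsg.suzukiOvoid F m) := ⟨fun p q => by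
    obtain ⟨g, hg⟩ := exists_move_inf (m := m) hF p
    obtain ⟨g', hg'⟩ := exists_move_inf (m := m) hF q
    exact ⟨g'⁻¹ * g, by rw [mul_smul, hg, ← hg', inv_smul_smul]⟩⟩
  have hX : Nat.card (Cfsg.suzukiOvoid F m) = (2 ^ (2 * m + 1)) ^ 2 + 1 := by
    rw [SuzukiBasic.ovoid_card, Nat.card_eq_fintype_card, hF]
  set B : Subgroup (Cfsg.Sz F m) := stabilizer (Cfsg.Sz F m) (inf F m) with hB
  have hidx : B.index = (2 ^ (2 * m + 1)) ^ 2 + 1 := by
    rw [hB, MulAction.index_stabilizer_of_transitive, hX]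
  have hq4 : 2 ≤ 2 ^ (2 * m + 1) := by
    calc 2 = 2 ^ 1 := rfl
      _ ≤ _ := Nat.pow_le_pow_right (by norm_num) (by omega)
  have hmem : ∀ g, g ∈ B ↔ g • inf F m = inf F m := fun g => Iff.rfl
  have hu : ∀ a b : F, u hF a b ∈ B := fun a b => (hmem _).2 (u_smul_inf hF a b)
  have hh : ∀ k : Fˣ, h hF k ∈ B := fun k => (hmem _).2 (h_smul_inf hF k)
  refine rowA_of_rank_one (B := B) (n := w hF) (fun g => ?_) ?_ ?_ (sylowQ hm hF) ?_ ?_
  · rcases bruhat' hm hF g with ⟨a, b, k, rfl⟩ | ⟨a, b, k, c, d, rfl⟩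
    · exact Or.inl (mul_mem (hu a b) (hh k))
    · exact Or.inr ⟨_, hu a b, h hF k * u hF c d, mul_mem (hh k) (hu c d), by group⟩
  · rw [hidx]
    nlinarith
  · rw [hidx, Nat.add_sub_cancel]
    intro h1
    exact hp2 ((Nat.prime_dvd_prime_iff_eq hp.out Nat.prime_two).1
      (hp.out.dvd_of_dvd_pow (hp.out.dvd_of_dvd_pow h1)))
  · ext g
    rw [← Sylow.smul_eq_iff_mem_normalizer, smul_sylowQ_eq_iff, hmem]
  · by_cases h1 : p ∣ B.index
    · exact Or.inl h1
    · right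
      rw [hidx] at h1
      have h2 : p ∣ 2 ^ (2 * m + 1) - 1 := by
        rw [card_Sz hm hF] at hd
        rcases (hp.out.dvd_mul).1 hd with h | h
        · exact absurd h h1
        · rcases (hp.out.dvd_mul).1 h with h | h
          · exact absurd ((Nat.prime_dvd_prime_iff_eq hp.out Nat.prime_two).1
              (hp.out.dvd_of_dvd_pow (hp.out.dvd_of_dvd_pow h))) hp2
          · exact h
      have h2' : p ∣ Nat.card Fˣ := by rwa [Nat.card_units, Nat.card_eq_fintype_card, hF]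
      obtain ⟨k, hk⟩ := exists_prime_orderOf_dvd_card' (G := Fˣ) p h2'
      have hk1 : k ≠ 1 := by
        rintro rfl
        rw [orderOf_one] at hk
        exact hp.out.one_lt.ne hk
      refine ⟨hodd, zpowers (h hF k), ?_, ?_, ?_, fun g hg => sz_two hm hF hk1 (hg _ (mem_zpowers _))⟩
      · have h4 : h hF k ^ p = 1 := by
          have h5 : h hF k ^ p = h hF (k ^ p) := by
            rw [← hHom_apply, ← hHom_apply, map_pow]
          rw [h5, ← hk, pow_orderOf_eq_one, h_one]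
        obtain ⟨j, -, hj⟩ := (Nat.dvd_prime_pow hp.out (m := 1) (i := orderOf (h hF k))).1
          (by rw [pow_one]; exact orderOf_dvd_of_pow_eq_one h4)
        exact IsPGroup.of_card (n := j) (by rw [Nat.card_zpowers, hj])
      · rw [zpowers_le]
        exact hh k
      · intro g hg
        have h5 : g ∈ centralizer ({h hF k} : Set (Cfsg.Sz F m)) := by
          rw [mem_centralizer_singleton_iff]
          exact (mem_centralizer_iff.1 hg _ (mem_zpowers _)).symm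
        rw [centralizer_h hm hF hk1] at h5
        obtain ⟨l, rfl⟩ := h5
        exact hh l

/-- the index of the inner automorphisms is invariant under isomorphisms -/
theorem index_inn_congr {G H : Type*} [Group G] [Group H] (e : G ≃* H) :
    (MulAut.conj : G →* MulAut G).range.index = (MulAut.conj : H →* MulAut H).range.index := by
  have h1 : (MulAut.conj : G →* MulAut G).range.map (MulAut.congr e).toMonoidHom = (MulAut.conj : H →* MulAut H).range := by
    ext x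
    constructor
    · rintro ⟨_, ⟨g, rfl⟩, rfl⟩
      refine ⟨e g, ?_⟩
      ext y
      simp [MulAut.congr]
    · rintro ⟨k, rfl⟩
      refine ⟨_, ⟨e.symm k, rfl⟩, ?_⟩
      ext y
      simp [MulAut.congr]
  rw [← h1]
  exact (Subgroup.index_map_equiv _ (MulAut.congr e)).symm

/-- **`Sz(q)`, `p` odd** -/
theorem rowForA_sz {p : ℕ} [Fact p.Prime] (hp2 : p ≠ 2) : RowForA p (fun X _ => Lie.IsoSuzuki X) := by
  intro X _ _ _ _ hd hX
  obtain ⟨F, _, _, m, hm, hF, ⟨e⟩⟩ := hX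
  obtain ⟨i⟩ := Cfsg.Agent.OddCyclic.ClaimC.SzIso.iso hm hF
  have e' := e.trans i.symm
  have : Finite (Cfsg.Sz F m) := Finite.of_equiv X e'.toEquiv
  have := Fintype.ofFinite (Cfsg.Sz F m)
  have h1 := Cfsg.Agent.S2126.result hm hF
  have h2 : (MulAut.conj : ↥(Cfsg.Lie.Sz F (2 ^ (m + 1))) →* _).range.index = 2 * m + 1 := h1
  exact H776.CY.RowA.congr e' (rowA_sz hm hF hp2 (by rwa [Nat.card_congr e'.toEquiv] at hd)
    (by rw [index_inn_congr i, h2]; exact ⟨m, rfl⟩))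

end sz

end Cfsg.Agent.H103.CY
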