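import Cfsg.Agent.H125.CY.Sum
import Cfsg.Agent.H908.BR.RankOne

/-!
# S4829: groups with two double cosets of a Sylow normalizer (helper103)

`rowA_of_rank_one` : `B` the normalizer of a Sylow subgroup, two double cosets, `p ∤ |S : B| - 1`, and either `p ∣ |S : B|`
or `|Aut S : Inn S|` is odd and some `p`-subgroup of `B` has its centralizer in `B` and fixes at most two points:
`RowA p S`, with `Ψ = ` (number of fixed Sylow subgroups) `- 1`.
-/

set_option autoImplicit false
set_option linter.unusedSectionVars false

namespace Cfsg.Agent.H103.CY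

open Cfsg Subgroup Cfsg.Agent.H770.CY Cfsg.Agent.H125.CY MulAction
open scoped Pointwise

universe u v

/-- the number of fixed points of a generator -/
theorem card_fixedBy_pow {G : Type*} [Group G] [Finite G] {X : Type*} [MulAction G X] {k : ℕ}
    (hk : Nat.Coprime k (Nat.card G)) (g : G) : Nat.card (fixedBy X (g ^ k)) = Nat.card (fixedBy X g) := by
  have h1 : fixedBy X (g ^ k) = fixedBy X g := by
    ext x
    constructor
    · intro hx
      obtain ⟨m, hm⟩ : ∃ m : ℕ, (g ^ k) ^ m = g := by
        have h2 : Nat.Coprime k (orderOf g) := hk.coprime_dvd_right (orderOf_dvd_natCard g)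
        exact (exists_pow_eq_self_of_coprime h2).imp fun m hm => hm
      have h3 : (g ^ k) ^ m • x = x := by
        induction m with
        | zero => rw [pow_zero, one_smul]
        | succ m ih =>
          clear ih hm
          induction m + 1 with
          | zero => rw [pow_zero, one_smul]
          | succ n ih => rw [pow_succ, mul_smul, show g ^ k • x = x from hx, ih]
      rw [hm] at h3
      exact h3
    · intro hx
      have hx' : g • x = x := hx
      show g ^ k • x = x
      induction k with
      | zero => rw [pow_zero, one_smul]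
      | succ n ih =>
        clear ih hk
        induction n + 1 with
        | zero => rw [pow_zero, one_smul]
        | succ n ih => rw [pow_succ, mul_smul, hx', ih]
  rw [h1]

section

variable {S : Type u} [Group S] {l : ℕ} [Fact l.Prime]

/-- the action of the inner automorphisms on the Sylow subgroups -/
theorem conj_smul_sylow (s : S) (P : Sylow l S) : (MulAut.conj s : MulAut S) • P = s • P := rfl

theorem smul_smul_aut (a : MulAut S) (x : S) (P : Sylow l S) : a • (x • P) = (a x) • (a • P) := by
  rw [Sylow.smul_def, Sylow.smul_def, smul_smul, smul_smul]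
  congr 1
  ext y
  simp

variable [Finite S]

/-- two double cosets of a Sylow normalizer: `2`-transitivity on the Sylow subgroups -/
theorem two_trans_sylow {B : Subgroup S} {n : S} (hB : ∀ g : S, g ∈ B ∨ ∃ b ∈ B, ∃ b' ∈ B, g = b * n * b')
    (P : Sylow l S) (hP : normalizer (P : Set S) = B) : IsMultiplyPretransitive S (Sylow l S) 2 := by
  have hst : ∀ b : S, b ∈ B ↔ b • P = P := fun b => by
    rw [← hP, Sylow.smul_eq_iff_mem_normalizer]
  have key : ∀ x y : Sylow l S, x ≠ y → ∃ g : S, g • x = P ∧ g • y = n • P := by
    intro x y hxy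
    obtain ⟨a, rfl⟩ := MulAction.exists_smul_eq S P x
    obtain ⟨c, rfl⟩ := MulAction.exists_smul_eq S P y
    rcases hB (a⁻¹ * c) with h | ⟨b, hb, b', hb', h⟩
    · exfalso
      apply hxy
      have h1 := (hst _).1 h
      rw [mul_smul, inv_smul_eq_iff] at h1
      exact h1.symm
    · refine ⟨b⁻¹ * a⁻¹, ?_, ?_⟩
      · rw [← mul_smul]
        have e : b⁻¹ * a⁻¹ * a = b⁻¹ := by group
        rw [e]
        exact (hst _).1 (inv_mem hb)
      · rw [← mul_smul]
        have e : b⁻¹ * a⁻¹ * c = n * b' := by rw [mul_assoc, h]; group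
        rw [e, mul_smul, (hst _).1 hb']
  rw [is_two_pretransitive_iff]
  intro a b c d hab hcd
  obtain ⟨g, hg1, hg2⟩ := key a b hab
  obtain ⟨g', hg1', hg2'⟩ := key c d hcd
  refine ⟨g'⁻¹ * g, ?_, ?_⟩
  · rw [mul_smul, hg1, ← hg1', inv_smul_smul]
  · rw [mul_smul, hg2, ← hg2', inv_smul_smul]

theorem two_trans_aut (h : IsMultiplyPretransitive S (Sylow l S) 2) (A : Subgroup (MulAut S))
    (hA : ∀ s : S, MulAut.conj s ∈ A) : IsMultiplyPretransitive A (Sylow l S) 2 := by
  rw [is_two_pretransitive_iff] at h ⊢
  intro a b c d hab hcd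
  obtain ⟨g, h1, h2⟩ := h hab hcd
  exact ⟨⟨MulAut.conj g, hA g⟩, h1, h2⟩

/-- the number of `a`-invariant Sylow subgroups minus one -/
noncomputable def psi (l : ℕ) [Fact l.Prime] {S : Type u} [Group S] (A : Subgroup (MulAut S)) : A → ℂ :=
  fun a => (Nat.card (fixedBy (Sylow l S) a) : ℂ) - 1

/-- fixed points: if a `p`-group `Q` is centralized by `a` and `a` fixes every point fixed by `Q`, the number of points
fixed by `a` is congruent to the number of all points -/
theorem card_fix_modEq {p : ℕ} [Fact p.Prime] {Q : Subgroup S} (hQ : IsPGroup p Q) (a : MulAut S)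
    (hc : ∀ x ∈ Q, a x = x) (hf : ∀ P : Sylow l S, (∀ x ∈ Q, x • P = P) → a • P = P) :
    Nat.card (fixedBy (Sylow l S) a) ≡ Nat.card (Sylow l S) [MOD p] := by
  have hst : ∀ (x : Q) (P : fixedBy (Sylow l S) a), x • (P : Sylow l S) ∈ fixedBy (Sylow l S) a := by
    intro x P
    have h1 : a • (P : Sylow l S) = P := P.2
    show a • ((x : S) • (P : Sylow l S)) = (x : S) • (P : Sylow l S)
    rw [smul_smul_aut, hc x x.2, h1]
  let _ : MulAction Q (fixedBy (Sylow l S) a) :=
    { smul := fun x P => ⟨x • (P : Sylow l S), hst x P⟩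
      one_smul := fun P => Subtype.ext (one_smul _ _)
      mul_smul := fun x y P => Subtype.ext (mul_smul _ _ _) }
  have h1 := hQ.card_modEq_card_fixedPoints (fixedBy (Sylow l S) a)
  have h2 := hQ.card_modEq_card_fixedPoints (Sylow l S)
  have h3 : Nat.card (fixedPoints Q (fixedBy (Sylow l S) a)) = Nat.card (fixedPoints Q (Sylow l S)) := by
    refine Nat.card_congr ⟨fun P => ⟨P.1.1, fun x => congrArg Subtype.val (P.2 x)⟩,
      fun P => ⟨⟨P.1, hf P.1 fun x hx => P.2 ⟨x, hx⟩⟩, fun x => Subtype.ext (P.2 x)⟩, fun P => rfl, fun P => rfl⟩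
  rw [h3] at h1
  exact h1.trans h2.symm

end

/-- **The criterion.** -/
theorem rowA_of_rank_one {S : Type u} [Group S] [Fintype S] {p : ℕ} [Fact p.Prime] {B : Subgroup S} {n : S}
    (hB : ∀ g : S, g ∈ B ∨ ∃ b ∈ B, ∃ b' ∈ B, g = b * n * b') (hi : 2 < B.index) (hd : ¬ p ∣ B.index - 1)
    {l : ℕ} [Fact l.Prime] (P : Sylow l S) (hP : normalizer (P : Set S) = B)
    (hp : p ∣ B.index ∨ (Odd (MulAut.conj : S →* MulAut S).range.index ∧ ∃ Q : Subgroup S, IsPGroup p Q ∧ Q ≤ B ∧
      centralizer (Q : Set S) ≤ B ∧ ∀ g : S, (∀ x ∈ Q, g⁻¹ * x * g ∈ B) → g ∈ B ∨ ∃ b ∈ B, g = n * b)) :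
    RowA p S := by
  classical
  intro A hA M hM
  have hst : ∀ b : S, b ∈ B ↔ b • P = P := fun b => by
    rw [← hP, Sylow.smul_eq_iff_mem_normalizer]
  have h2 := two_trans_sylow hB P hP
  have h2A := two_trans_aut h2 A hA.1
  have hcard : Nat.card (Sylow l S) = B.index := by
    rw [Sylow.card_eq_index_normalizer P, hP]
  have hfinA : Finite (MulAut S) := inferInstance
  have hpreS : IsPretransitive S (Sylow l S) := inferInstance
  have hpreA : IsPretransitive A (Sylow l S) := ⟨fun x y => by
    obtain ⟨g, hg⟩ := MulAction.exists_smul_eq S x y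
    exact ⟨⟨MulAut.conj g, hA.1 g⟩, hg⟩⟩
  have hirr := (Cfsg.Agent.S0157.result (G := S) (Sylow l S) (by rw [hcard]; omega)).2 h2
  have hirrA := (Cfsg.Agent.S0157.result (G := A) (Sylow l S) (by rw [hcard]; omega)).2 h2A
  have hone : Nat.card (fixedBy (Sylow l S) (1 : A)) = B.index := by
    rw [← hcard]
    refine Nat.card_congr ((Equiv.setCongr ?_).trans (Equiv.Set.univ _))
    rw [Set.eq_univ_iff_forall]
    intro x
    rw [mem_fixedBy, one_smul]
  have hone' : Nat.card (fixedBy (Sylow l S) (1 : S)) = B.index := by
    rw [← hcard]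
    refine Nat.card_congr ((Equiv.setCongr ?_).trans (Equiv.Set.univ _))
    rw [Set.eq_univ_iff_forall]
    intro x
    rw [mem_fixedBy, one_smul]
  refine ⟨psi l A, witA_of_irr (Characters.Core.isIrr_isCharacter hirrA) ?_ ⟨B.index - 1, ?_, hd⟩
    ⟨_, hirr⟩ ?_ ?_ ?_ ?_⟩
  · intro k hk _ g
    unfold psi
    rw [card_fixedBy_pow hk]
  · unfold psi
    rw [hone, Nat.cast_sub (by omega), Nat.cast_one]
  · intro h
    have h1 := congrFun h 1
    change (Nat.card (fixedBy (Sylow l S) (1 : S)) : ℂ) - 1 = 1 at h1
    rw [hone'] at h1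
    have h3 : (B.index : ℂ) = 2 := by linear_combination h1
    have h4 : B.index = 2 := by exact_mod_cast h3
    omega
  · intro k hk _ g
    show (Nat.card (fixedBy (Sylow l S) (g ^ k)) : ℂ) - 1 = (Nat.card (fixedBy (Sylow l S) g) : ℂ) - 1
    rw [card_fixedBy_pow hk]
  · intro s
    rfl
  · intro a _ ⟨Q, hQ⟩
    have key : Nat.card (fixedBy (Sylow l S) (a : MulAut S)) ≡ Nat.card (Sylow l S) [MOD p] := by
      rcases hp with h | ⟨hodd, Q₀, hQ1, hQ2, hQ3, hQ4⟩
      · -- no fixed points of `Q`
        refine card_fix_modEq Q.isPGroup' a hQ ?_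
        intro P' hP'
        exfalso
        obtain ⟨g, rfl⟩ := MulAction.exists_smul_eq S P P'
        have h1 : (Q : Subgroup S) ≤ normalizer ((g • P : Sylow l S) : Set S) := by
          intro x hx
          rw [← Sylow.smul_eq_iff_mem_normalizer]
          exact hP' x hx
        have h3 : (normalizer ((g • P : Sylow l S) : Set S)).index = B.index := by
          rw [← Sylow.card_eq_index_normalizer, hcard]
        have h4 := (Subgroup.index_dvd_of_le h1)
        rw [h3] at h4
        exact Q.not_dvd_index (h.trans h4)
      · -- at most two fixed points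
        obtain ⟨g, hg⟩ : ∃ g : S, ∀ x ∈ Q₀, g * x * g⁻¹ ∈ (Q : Subgroup S) := by
          obtain ⟨Q', hQ'⟩ := hQ1.exists_le_sylow
          obtain ⟨g, hg⟩ := MulAction.exists_smul_eq S Q' Q
          refine ⟨g, fun x hx => ?_⟩
          rw [← hg, Sylow.smul_def]
          exact Subgroup.smul_mem_pointwise_smul _ (MulAut.conj g) _ (hQ' hx)
        let Q₁ : Subgroup S := Q₀.map (MulAut.conj g).toMonoidHom
        have hQ₁ : IsPGroup p Q₁ := hQ1.map _
        have hmem : ∀ x ∈ Q₁, ∃ y ∈ Q₀, x = g * y * g⁻¹ := by
          rintro _ ⟨y, hy, rfl⟩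
          exact ⟨y, hy, rfl⟩
        have ha : ∀ x ∈ Q₁, (a : MulAut S) x = x := by
          intro x hx
          obtain ⟨y, hy, rfl⟩ := hmem x hx
          exact hQ _ (hg y hy)
        -- the fixed points of `Q₁`
        have hfx : ∀ P' : Sylow l S, (∀ x ∈ Q₁, x • P' = P') → P' = g • P ∨ P' = (g * n) • P := by
          intro P' hP'
          obtain ⟨c, rfl⟩ := MulAction.exists_smul_eq S P P'
          have h1 : ∀ x ∈ Q₀, (g⁻¹ * c)⁻¹ * x * (g⁻¹ * c) ∈ B := by
            intro x hx
            rw [hst]
            have h5 := hP' (g * x * g⁻¹) ⟨x, hx, rfl⟩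
            have e : (g⁻¹ * c)⁻¹ * x * (g⁻¹ * c) = c⁻¹ * (g * x * g⁻¹) * c := by group
            rw [e, mul_smul, mul_smul, h5, inv_smul_smul]
          rcases hQ4 _ h1 with h5 | ⟨b, hb, h5⟩
          · left
            have h6 := (hst _).1 h5
            rw [mul_smul, inv_smul_eq_iff] at h6
            exact h6
          · right
            have h6 : c = g * n * b := by rw [mul_assoc, ← h5]; group
            rw [h6, mul_smul, (hst _).1 hb]
        -- `a` permutes the fixed points of `Q₁`
        have hperm : ∀ P' : Sylow l S, (∀ x ∈ Q₁, x • P' = P') → ∀ x ∈ Q₁, x • ((a : MulAut S) • P') = (a : MulAut S) • P' := by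
          intro P' hP' x hx
          have h5 := smul_smul_aut (a : MulAut S) x P'
          rw [hP' x hx, ha x hx] at h5
          exact h5.symm
        have hgP : ∀ x ∈ Q₁, x • (g • P) = g • P := by
          intro x hx
          obtain ⟨y, hy, rfl⟩ := hmem x hx
          rw [← mul_smul]
          have e : g * y * g⁻¹ * g = g * y := by group
          rw [e, mul_smul, (hst _).1 (hQ2 hy)]
        have hfix : (a : MulAut S) • (g • P) = g • P := by
          by_contra hne
          have h5 : (a : MulAut S) • (g • P) = (g * n) • P := by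
            rcases hfx _ (hperm _ hgP) with h6 | h6
            · exact absurd h6 hne
            · exact h6
          have h6 : (a : MulAut S) • ((g * n) • P) = g • P := by
            rw [← h5]
            rcases hfx _ (hperm _ (hperm _ hgP)) with h7 | h7
            · exact h7
            · exfalso
              apply hne
              have h8 : (a : MulAut S) • ((a : MulAut S) • (g • P)) = (a : MulAut S) • (g • P) := by rw [h7, h5]
              exact smul_left_cancel _ h8
          -- an odd power is inner
          obtain ⟨j, hj⟩ := hodd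
          have hn : ((MulAut.conj : S →* MulAut S).range).Normal := by
            refine ⟨?_⟩
            rintro _ ⟨s, rfl⟩ b
            refine ⟨b s, ?_⟩
            ext y
            simp [MulAut.conj_apply]
          have h7 : (a : MulAut S) ^ (2 * j + 1) ∈ (MulAut.conj : S →* MulAut S).range := by
            rw [← hj]
            exact Subgroup.pow_index_mem _ _
          obtain ⟨s, hs⟩ := h7
          have h8 : ∀ k : ℕ, (a : MulAut S) ^ (2 * k) • (g • P) = g • P := by
            intro k
            induction k with
            | zero => rw [mul_zero, pow_zero, one_smul]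
            | succ k ih =>
              have e : (a : MulAut S) ^ (2 * (k + 1)) = (a : MulAut S) ^ (2 * k) * ((a : MulAut S) * (a : MulAut S)) := by
                rw [← pow_two, ← pow_add]; ring_nf
              rw [e, mul_smul, mul_smul, h5, h6, ih]
          have h9 : (a : MulAut S) ^ (2 * j + 1) • (g • P) = (g * n) • P := by
            rw [pow_succ', mul_smul, h8, h5]
          have h10 : s • (g • P) = (g * n) • P := by
            rw [← h9, ← hs]
            rfl
          -- `s` centralizes `Q₁`
          have h11 : g⁻¹ * s * g ∈ B := by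
            apply hQ3
            rw [mem_centralizer_iff]
            intro x hx
            have h12 : ∀ k : ℕ, ((a : MulAut S) ^ k) (g * x * g⁻¹) = g * x * g⁻¹ := by
              intro k
              induction k with
              | zero => rfl
              | succ k ih =>
                have h20 : (a : MulAut S) (g * x * g⁻¹) = g * x * g⁻¹ := ha _ ⟨x, hx, rfl⟩
                rw [pow_succ, MulAut.mul_apply, h20, ih]
            have h13 := h12 (2 * j + 1)
            rw [← hs, MulAut.conj_apply] at h13
            have h14 : s * (g * x * g⁻¹) = g * x * g⁻¹ * s := by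
              rw [mul_inv_eq_iff_eq_mul] at h13
              exact h13
            calc x * (g⁻¹ * s * g) = g⁻¹ * (g * x * g⁻¹ * s) * g := by group
              _ = g⁻¹ * (s * (g * x * g⁻¹)) * g := by rw [h14]
              _ = g⁻¹ * s * g * x := by group
          have h15 : s • (g • P) = g • P := by
            have h16 := (hst _).1 h11
            rw [mul_smul, mul_smul, inv_smul_eq_iff] at h16
            exact h16
          rw [h15] at h10
          apply hne
          rw [h5, h10]
        refine card_fix_modEq hQ₁ (a : MulAut S) ha ?_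
        intro P' hP'
        rcases hfx P' hP' with h5 | h5
        · rw [h5]
          exact hfix
        · rcases hfx _ (hperm P' hP') with h6 | h6
          · have h7 : (a : MulAut S) • P' = (a : MulAut S) • (g • P) := by rw [h6, hfix]
            have h8 := smul_left_cancel _ h7
            rw [h8]
            exact hfix
          · rw [h6, h5]
    have h3 : psi l A a - psi l A 1 =
        (((Nat.card (fixedBy (Sylow l S) (a : MulAut S)) : ℤ) - (Nat.card (Sylow l S) : ℤ) : ℤ) : ℂ) := by
      unfold psi
      rw [hone, ← hcard]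
      push_cast
      have e : fixedBy (Sylow l S) a = fixedBy (Sylow l S) (a : MulAut S) := rfl
      rw [e]
      ring
    rw [h3, Blocks.Local.memLocalIdeal_intCast_iff hM]
    have h4 := (Nat.modEq_iff_dvd.1 key.symm)
    exact h4

end Cfsg.Agent.H103.CY
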